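import Mathlib

/-!
A group generated by `u`, `h`, `j` with `u²³ = h²² = j² = (jh)² = (uj)³ = 1` and `h u h⁻¹ = u⁵` has
at most `23 * 22 * 24` elements, so these relations present `PGL₂(23)`, and a group with such
elements, `u ≠ 1`, has a subgroup isomorphic to it.
-/

set_option autoImplicit false
set_option linter.style.haveILetI false

namespace CfsgLib.PGLTwentyThree

open Matrix

/-- The modulus is prime. -/
local instance factPrime : Fact (Nat.Prime 23) := ⟨by norm_num⟩

/-- Elements satisfying the relations. -/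
structure Rels {G : Type*} [Group G] (u h j : G) : Prop where
  u_pow : u ^ 23 = 1
  h_pow : h ^ 22 = 1
  conj : h * u * h⁻¹ = u ^ 5
  j_sq : j * j = 1
  jh : j * h * j * h = 1
  uj : u * j * u * j * u * j = 1

variable {G : Type*} [Group G] {u h j : G}

/-- A power indexed by the residues. -/
def nn (u : G) (a : ZMod 23) : G := u ^ a.val

theorem nn_zero (u : G) : nn u 0 = 1 := pow_zero u

theorem nn_one (u : G) : nn u 1 = u := pow_one u

namespace Rels

variable (H : Rels u h j)
include H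

theorem nn_add (a b : ZMod 23) : nn u (a + b) = nn u a * nn u b := by
  rw [nn, nn, nn, ← pow_add, ZMod.val_add]
  conv_rhs => rw [← Nat.mod_add_div (a.val + b.val) 23, pow_add, pow_mul, H.u_pow, one_pow, mul_one]

theorem nn_natCast (n : ℕ) : nn u (n : ZMod 23) = u ^ n := by
  rw [nn, ZMod.val_natCast]
  conv_rhs => rw [← Nat.mod_add_div n 23, pow_add, pow_mul, H.u_pow, one_pow, mul_one]

theorem nn_neg (a : ZMod 23) : nn u (-a) = (nn u a)⁻¹ :=
  eq_inv_of_mul_eq_one_left (by rw [← H.nn_add, neg_add_cancel, nn_zero])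

theorem h_mod (k : ℕ) : h ^ k = h ^ (k % 22) := by
  conv_lhs => rw [← Nat.mod_add_div k 22, pow_add, pow_mul, H.h_pow, one_pow, mul_one]

theorem h_inv (k : ℕ) : (h ^ k)⁻¹ = h ^ (21 * k) := by
  refine inv_eq_of_mul_eq_one_right ?_
  rw [← pow_add, show k + 21 * k = 22 * k by omega, pow_mul, H.h_pow, one_pow]

theorem h_nn : ∀ (k : ℕ) (a : ZMod 23), h ^ k * nn u a = nn u (5 ^ k * a) * h ^ k
  | 0, a => by simp
  | k + 1, a => by
    have h1 : ∀ b : ZMod 23, h * nn u b = nn u (5 * b) * h := fun b => by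
      have e : h * nn u b * h⁻¹ = nn u (5 * b) := by
        rw [nn, ← conj_pow, H.conj, ← pow_mul, ← H.nn_natCast, Nat.cast_mul, ZMod.natCast_zmod_val]
        rfl
      rw [← e, inv_mul_cancel_right]
    rw [pow_succ', mul_assoc, h_nn k a, ← mul_assoc, h1, mul_assoc, ← mul_assoc (5 : ZMod 23),
      pow_succ' (5 : ZMod 23)]

theorem j_inv : j⁻¹ = j := inv_eq_of_mul_eq_one_right H.j_sq

theorem j_hpow (k : ℕ) : j * h ^ k = h ^ (21 * k) * j := by
  have e : j * h * j⁻¹ = h ^ 21 := by
    have h1 : j * h * j = h⁻¹ := eq_inv_of_mul_eq_one_left H.jh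
    rw [H.j_inv, h1, ← pow_one h, H.h_inv 1, pow_one]
  rw [pow_mul, ← e, conj_pow, inv_mul_cancel_right]

theorem j_u_j : j * u * j = u⁻¹ * j * u⁻¹ := by
  have e : u * (j * u * j) * u * j = 1 := by
    have := H.uj
    simpa [mul_assoc] using this
  have e2 := eq_inv_of_mul_eq_one_left e
  rw [H.j_inv] at e2
  calc j * u * j = u⁻¹ * (u * (j * u * j) * u) * u⁻¹ := by group
    _ = u⁻¹ * j * u⁻¹ := by rw [e2]

omit H in
theorem exists_pow_five : ∀ t : ZMod 23, t ≠ 0 → ∃ k < 22, (5 : ZMod 23) ^ k = t := by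
  decide +kernel

/-- Moving `j` across a non-trivial power of `u`. -/
theorem j_nn_j {t : ZMod 23} (ht : t ≠ 0) :
    ∃ (c d : ZMod 23) (e : ℕ), j * nn u t * j = nn u c * h ^ e * j * nn u d := by
  obtain ⟨k, -, rfl⟩ := exists_pow_five t ht
  set c : ZMod 23 := 5 ^ (21 * k) with hc
  refine ⟨-c, -c, 21 * k + 21 * k, ?_⟩
  have e1 : nn u ((5 : ZMod 23) ^ k) = h ^ k * u * h ^ (21 * k) := by
    rw [← H.h_inv, eq_mul_inv_iff_mul_eq]
    conv_rhs => rw [← nn_one u, H.h_nn k 1, mul_one]
  have e2 : h ^ (21 * k) * u⁻¹ = nn u (-c) * h ^ (21 * k) := by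
    rw [show u⁻¹ = nn u (-1) by rw [H.nn_neg, nn_one], H.h_nn, mul_neg, mul_one]
  have e3 : u⁻¹ * h ^ k = h ^ k * nn u (-c) := by
    rw [H.h_nn, mul_neg, hc, ← pow_add, show k + 21 * k = 22 * k by omega, pow_mul,
      show ((5 : ZMod 23) ^ 22) = 1 by decide +kernel, one_pow, H.nn_neg, nn_one]
  have e4 : h ^ (21 * k) * j = j * h ^ k := (H.j_hpow k).symm
  have e5 : j * h ^ k = h ^ (21 * k) * j := H.j_hpow k
  calc j * nn u ((5 : ZMod 23) ^ k) * j
      = (j * h ^ k) * u * (h ^ (21 * k) * j) := by rw [e1]; simp only [mul_assoc]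
    _ = (h ^ (21 * k) * j) * u * (j * h ^ k) := by
      conv_lhs => arg 2; rw [e4]
      conv_lhs => arg 1; arg 1; rw [e5]
    _ = h ^ (21 * k) * (j * u * j) * h ^ k := by simp only [mul_assoc]
    _ = (h ^ (21 * k) * u⁻¹) * j * (u⁻¹ * h ^ k) := by rw [H.j_u_j]; simp only [mul_assoc]
    _ = nn u (-c) * h ^ (21 * k) * (j * h ^ k) * nn u (-c) := by
      rw [e2, e3]; simp only [mul_assoc]
    _ = nn u (-c) * h ^ (21 * k + 21 * k) * j * nn u (-c) := by
      rw [e5, pow_add]; simp only [mul_assoc]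

end Rels

/-- The normal forms. -/
def form (u h j : G) : (ZMod 23 × Fin 22) ⊕ (ZMod 23 × Fin 22 × ZMod 23) → G :=
  Sum.elim (fun x => nn u x.1 * h ^ (x.2 : ℕ))
    (fun x => nn u x.1 * h ^ (x.2.1 : ℕ) * j * nn u x.2.2)

theorem mem_form_B (H : Rels u h j) (a : ZMod 23) (k : ℕ) :
    nn u a * h ^ k ∈ Set.range (form u h j) :=
  ⟨Sum.inl (a, ⟨k % 22, Nat.mod_lt _ (by norm_num)⟩), by
    rw [H.h_mod k]; rfl⟩

theorem mem_form_BjB (H : Rels u h j) (a : ZMod 23) (k : ℕ) (b : ZMod 23) :
    nn u a * h ^ k * j * nn u b ∈ Set.range (form u h j) :=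
  ⟨Sum.inr (a, ⟨k % 22, Nat.mod_lt _ (by norm_num)⟩, b), by
    rw [H.h_mod k]; rfl⟩

/-- The normal forms exhaust the generated group. -/
theorem closure_subset_form (H : Rels u h j) :
    ∀ x ∈ Subgroup.closure ({u, h, j} : Set G), x ∈ Set.range (form u h j) := by
  have hstep : ∀ s ∈ ({u, h, j} : Set G), ∀ x ∈ Set.range (form u h j),
      s * x ∈ Set.range (form u h j) := by
    intro s hs x hx
    obtain ⟨⟨a, k⟩ | ⟨a, k, b⟩, rfl⟩ := hx <;> rcases hs with rfl | rfl | rfl <;>
      simp only [form, Sum.elim_inl, Sum.elim_inr]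
    · rw [← mul_assoc, show s * nn s a = nn s (1 + a) by rw [H.nn_add, nn_one]]
      exact mem_form_B H _ _
    · have e := H.h_nn 1 a
      rw [pow_one] at e
      rw [← mul_assoc, e, mul_assoc, ← pow_succ']
      exact mem_form_B H _ _
    · by_cases ha : a = 0
      · rw [ha, nn_zero, one_mul, H.j_hpow]
        have := mem_form_BjB H 0 (21 * (k : ℕ)) 0
        rwa [nn_zero, one_mul, mul_one] at this
      · obtain ⟨c, d, e, hce⟩ := H.j_nn_j ha
        have h1 : s * nn u a = nn u c * h ^ e * s * nn u d * s := by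
          rw [← hce, mul_assoc _ s s, H.j_sq, mul_one]
        rw [← mul_assoc, h1, mul_assoc (nn u c * h ^ e * s * nn u d), H.j_hpow]
        have h2 : nn u d * h ^ (21 * (k : ℕ)) = h ^ (21 * (k : ℕ)) * nn u (5 ^ (k : ℕ) * d) := by
          rw [H.h_nn, ← mul_assoc ((5 : ZMod 23) ^ _), ← pow_add,
            show 21 * (k : ℕ) + k = 22 * k by omega, pow_mul (5 : ZMod 23),
            show ((5 : ZMod 23) ^ 22) = 1 by decide +kernel, one_pow, one_mul]
        have h3 : nn u c * h ^ e * s * nn u d * (h ^ (21 * (k : ℕ)) * s) =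
            nn u c * h ^ (e + 21 * (21 * (k : ℕ))) * (s * nn u (5 ^ (k : ℕ) * d) * s) := by
          rw [pow_add]
          calc nn u c * h ^ e * s * nn u d * (h ^ (21 * (k : ℕ)) * s)
              = nn u c * h ^ e * s * (nn u d * h ^ (21 * (k : ℕ))) * s := by simp only [mul_assoc]
            _ = nn u c * h ^ e * (s * h ^ (21 * (k : ℕ))) * nn u (5 ^ (k : ℕ) * d) * s := by
              rw [h2]; simp only [mul_assoc]
            _ = _ := by rw [H.j_hpow]; simp only [mul_assoc]
        rw [h3]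
        by_cases hd : (5 : ZMod 23) ^ (k : ℕ) * d = 0
        · rw [hd, nn_zero, mul_one, H.j_sq, mul_one]
          exact mem_form_B H _ _
        · obtain ⟨c', d', e', hce'⟩ := H.j_nn_j hd
          rw [hce']
          have h4 := H.h_nn (e + 21 * (21 * (k : ℕ))) c'
          rw [show nn u c * h ^ (e + 21 * (21 * (k : ℕ))) * (nn u c' * h ^ e' * s * nn u d') =
            nn u c * (h ^ (e + 21 * (21 * (k : ℕ))) * nn u c') * h ^ e' * s * nn u d' by
              simp only [mul_assoc], h4]
          simp only [← mul_assoc]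
          rw [← H.nn_add, mul_assoc (nn u _) (h ^ _) (h ^ e'), ← pow_add]
          exact mem_form_BjB H _ _ _
    · rw [← mul_assoc, ← mul_assoc, ← mul_assoc, show s * nn s a = nn s (1 + a) by
        rw [H.nn_add, nn_one]]
      exact mem_form_BjB H _ _ _
    · have e := H.h_nn 1 a
      rw [pow_one] at e
      rw [← mul_assoc, ← mul_assoc, ← mul_assoc, e, mul_assoc (nn u _) s, ← pow_succ']
      exact mem_form_BjB H _ _ _
    · by_cases ha : a = 0
      · rw [ha, nn_zero, one_mul, ← mul_assoc, ← mul_assoc, H.j_hpow, mul_assoc (h ^ _) s s,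
          H.j_sq, mul_one, H.h_nn]
        exact mem_form_B H _ _
      · obtain ⟨c, d, e, hce⟩ := H.j_nn_j ha
        have h1 : s * nn u a = nn u c * h ^ e * s * nn u d * s := by
          rw [← hce, mul_assoc _ s s, H.j_sq, mul_one]
        rw [← mul_assoc, ← mul_assoc, ← mul_assoc, h1, mul_assoc _ s (h ^ _), H.j_hpow,
          ← mul_assoc, mul_assoc _ s s, H.j_sq, mul_one]
        have h2 : nn u d * h ^ (21 * (k : ℕ)) = h ^ (21 * (k : ℕ)) * nn u (5 ^ (k : ℕ) * d) := by
          rw [H.h_nn, ← mul_assoc ((5 : ZMod 23) ^ _), ← pow_add,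
            show 21 * (k : ℕ) + k = 22 * k by omega, pow_mul (5 : ZMod 23),
            show ((5 : ZMod 23) ^ 22) = 1 by decide +kernel, one_pow, one_mul]
        rw [mul_assoc (nn u c * h ^ e * s) (nn u d), h2, ← mul_assoc, mul_assoc _ s (h ^ _),
          H.j_hpow, ← mul_assoc, mul_assoc (nn u c) (h ^ e), ← pow_add, mul_assoc _ (nn u _) (nn u b),
          ← H.nn_add]
        exact mem_form_BjB H _ _ _
  have h1 : (1 : G) ∈ Set.range (form u h j) := by
    simpa [nn_zero] using mem_form_B H 0 0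
  have hinv : ∀ s ∈ ({u, h, j} : Set G), ∃ m : ℕ, s⁻¹ = s ^ m := by
    intro s hs
    rcases hs with rfl | rfl | rfl
    · exact ⟨22, inv_eq_of_mul_eq_one_right (by rw [← pow_succ', H.u_pow])⟩
    · exact ⟨21, inv_eq_of_mul_eq_one_right (by rw [← pow_succ', H.h_pow])⟩
    · exact ⟨1, by rw [pow_one, H.j_inv]⟩
  intro x hx
  suffices ∀ y ∈ Set.range (form u h j), x * y ∈ Set.range (form u h j) by simpa using this 1 h1
  induction hx using Subgroup.closure_induction'' with
  | mem s hs => exact hstep s hs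
  | inv_mem s hs =>
    obtain ⟨m, hm⟩ := hinv s hs
    rw [hm]
    clear hm
    induction m with
    | zero => simp
    | succ m ih => intro y hy; rw [pow_succ', mul_assoc]; exact hstep s hs _ (ih y hy)
  | one => simp
  | mul a b _ _ ha hb => intro y hy; rw [mul_assoc]; exact ha _ (hb y hy)

/-- The projective general linear group. -/
abbrev PGL : Type := GL (Fin 2) (ZMod 23) ⧸ Subgroup.center (GL (Fin 2) (ZMod 23))

/-- An invertible matrix. -/
noncomputable def mk (a b c d : ZMod 23) (hd : a * d - b * c ≠ 0) : GL (Fin 2) (ZMod 23) :=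
  GeneralLinearGroup.mkOfDetNeZero !![a, b; c, d] (by rwa [Matrix.det_fin_two_of])

/-- Projective matrices satisfying the relations. -/
noncomputable def pu : PGL := QuotientGroup.mk (mk 1 1 0 1 (by decide))
/-- Projective matrices satisfying the relations. -/
noncomputable def ph : PGL := QuotientGroup.mk (mk 5 0 0 1 (by decide))
/-- Projective matrices satisfying the relations. -/
noncomputable def pj : PGL := QuotientGroup.mk (mk 0 (-1) 1 0 (by decide))

theorem mk_eq_one (A : GL (Fin 2) (ZMod 23))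
    (h : ∃ l : ZMod 23, A.val = !![l, 0; 0, l]) : (QuotientGroup.mk A : PGL) = 1 := by
  obtain ⟨l, hl⟩ := h
  rw [QuotientGroup.eq_one_iff, Subgroup.mem_center_iff]
  intro B
  ext i k
  fin_cases i <;> fin_cases k <;>
    simp [Units.val_mul, hl, Matrix.mul_apply, Fin.sum_univ_two, mul_comm]

theorem prels : Rels pu ph pj := by
  have val_mk : ∀ a b c d hd, (mk a b c d hd).val = !![a, b; c, d] := fun _ _ _ _ _ => rfl
  refine ⟨?_, ?_, ?_, ?_, ?_, ?_⟩
  · exact mk_eq_one _ ⟨1, by simp only [Units.val_pow_eq_pow_val, val_mk]; decide +kernel⟩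
  · exact mk_eq_one _ ⟨1, by simp only [Units.val_pow_eq_pow_val, val_mk]; decide +kernel⟩
  · have e : (mk 5 0 0 1 (by decide) : GL (Fin 2) (ZMod 23)) * mk 1 1 0 1 (by decide) =
        mk 1 1 0 1 (by decide) ^ 5 * mk 5 0 0 1 (by decide) := by
      ext : 1
      simp only [Units.val_mul, Units.val_pow_eq_pow_val, val_mk]
      decide +kernel
    rw [mul_inv_eq_iff_eq_mul]
    exact congrArg (QuotientGroup.mk : GL (Fin 2) (ZMod 23) → PGL) e
  · exact mk_eq_one _ ⟨-1, by simp only [Units.val_mul, val_mk]; decide +kernel⟩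
  · exact mk_eq_one _ ⟨-5, by simp only [Units.val_mul, val_mk]; decide +kernel⟩
  · exact mk_eq_one _ ⟨-1, by simp only [Units.val_mul, val_mk]; decide +kernel⟩

theorem upper_forms : ∀ a b d : ZMod 23, a ≠ 0 → d ≠ 0 →
    ∃ n k : Fin 23, !![a, b; 0, d] =
      !![d, 0; 0, d] * (!![(1 : ZMod 23), 1; 0, 1] ^ (n : ℕ) * !![(5 : ZMod 23), 0; 0, 1] ^ (k : ℕ)) := by
  intro a b d ha hd
  have hu : ∀ n : ℕ, !![(1 : ZMod 23), 1; 0, 1] ^ n = !![1, (n : ZMod 23); 0, 1] := by
    intro n
    induction n with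
    | zero => ext i k; fin_cases i <;> fin_cases k <;> simp
    | succ n ih => rw [pow_succ, ih]; ext i k; fin_cases i <;> fin_cases k <;>
        simp [Matrix.mul_apply, Fin.sum_univ_two, add_comm]
  have hh : ∀ n : ℕ, !![(5 : ZMod 23), 0; 0, 1] ^ n = !![5 ^ n, 0; 0, 1] := by
    intro n
    induction n with
    | zero => ext i k; fin_cases i <;> fin_cases k <;> simp
    | succ n ih => rw [pow_succ, ih]; ext i k; fin_cases i <;> fin_cases k <;>
        simp [Matrix.mul_apply, Fin.sum_univ_two, pow_succ]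
  obtain ⟨k, hk, hk5⟩ := Rels.exists_pow_five (a / d) (div_ne_zero ha hd)
  refine ⟨⟨(b / d).val, ZMod.val_lt _⟩, ⟨k, by omega⟩, ?_⟩
  rw [hu, hh, ZMod.natCast_zmod_val, hk5]
  ext i l
  fin_cases i <;> fin_cases l <;> simp [Matrix.mul_apply, Fin.sum_univ_two] <;> field_simp

theorem pgl_top : Subgroup.closure ({pu, ph, pj} : Set PGL) = ⊤ := by
  set S := Subgroup.closure ({pu, ph, pj} : Set PGL)
  have hu : pu ∈ S := Subgroup.subset_closure (by simp)
  have hh : ph ∈ S := Subgroup.subset_closure (by simp)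
  have hj : pj ∈ S := Subgroup.subset_closure (by simp)
  have upper : ∀ A : GL (Fin 2) (ZMod 23), A.val 1 0 = 0 → (QuotientGroup.mk A : PGL) ∈ S := by
    intro A hA
    have hdet : A.val 0 0 * A.val 1 1 ≠ 0 := by
      have h1 : A.val.det ≠ 0 := (Matrix.isUnit_iff_isUnit_det A.val).1 A.isUnit |>.ne_zero
      rwa [Matrix.det_fin_two, hA, mul_zero, sub_zero] at h1
    obtain ⟨n, k, e⟩ := upper_forms (A.val 0 0) (A.val 0 1) (A.val 1 1)
      (left_ne_zero_of_mul hdet) (right_ne_zero_of_mul hdet)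
    have hd : A.val 1 1 * A.val 1 1 - 0 * 0 ≠ 0 := by
      simpa using right_ne_zero_of_mul hdet
    have eA : A = mk _ 0 0 _ hd *
        (mk 1 1 0 1 (by decide) ^ (n : ℕ) * mk 5 0 0 1 (by decide) ^ (k : ℕ)) := by
      ext : 1
      rw [Units.val_mul, Units.val_mul, Units.val_pow_eq_pow_val, Units.val_pow_eq_pow_val]
      refine Eq.trans ?_ e
      rw [← hA]
      exact Matrix.eta_fin_two A.val
    rw [eA, QuotientGroup.mk_mul, QuotientGroup.mk_mul, mk_eq_one _ ⟨_, rfl⟩, one_mul,
      QuotientGroup.mk_pow, QuotientGroup.mk_pow]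
    exact mul_mem (pow_mem hu _) (pow_mem hh _)
  rw [eq_top_iff]
  rintro x -
  induction x using QuotientGroup.induction_on with
  | _ A =>
    by_cases hc : A.val 1 0 = 0
    · exact upper A hc
    · set a : ZMod 23 := -(A.val 0 0 / A.val 1 0)
      have hT : (QuotientGroup.mk (mk 1 a 0 1 (by simp)) : PGL) ∈ S := upper _ (by rfl)
      have hB : (QuotientGroup.mk (mk 0 (-1) 1 0 (by decide) * (mk 1 a 0 1 (by simp) * A)) : PGL) ∈ S := by
        refine upper _ ?_
        simp [mk, a, Units.val_mul, Matrix.mul_apply, Matrix.vecMul, dotProduct, Fin.sum_univ_two,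
          div_mul_cancel₀ _ hc]
      rw [QuotientGroup.mk_mul, QuotientGroup.mk_mul] at hB
      have := mul_mem (inv_mem hT) (mul_mem (inv_mem hj) hB)
      simpa [pj] using this

theorem card_pgl : Nat.card PGL = 12144 := by
  have h1 : Nat.card (GL (Fin 2) (ZMod 23)) = 267168 := by
    rw [Matrix.card_GL_field, Fin.prod_univ_two]
    simp
  have h2 : Nat.card (Subgroup.center (GL (Fin 2) (ZMod 23))) = 22 := by
    rw [Matrix.GeneralLinearGroup.center_eq_range_scalar]
    refine (Nat.card_congr (MonoidHom.ofInjective ?_).toEquiv).symm.trans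
      (by rw [Nat.card_eq_fintype_card, ZMod.card_units])
    intro x y e
    have := congrArg (fun g : GL (Fin 2) (ZMod 23) => g.val 0 0) e
    exact Units.ext (by simpa using this)
  have := Subgroup.card_eq_card_quotient_mul_card_subgroup (Subgroup.center (GL (Fin 2) (ZMod 23)))
  rw [h1, h2] at this
  change Nat.card (GL (Fin 2) (ZMod 23) ⧸ _) = 12144
  omega

/-- A group with such elements has a subgroup `PGL₂(23)`. -/
theorem exists_subgroup (H : Rels u h j) (hu : u ≠ 1) :
    ∃ K : Subgroup G, Nonempty (↥K ≃* PGL) := by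
  classical
  let R : Subgroup (G × PGL) := Subgroup.closure {(u, pu), (h, ph), (j, pj)}
  have HR : Rels (u, pu) (h, ph) (j, pj) := by
    have Q := prels
    exact ⟨Prod.ext H.u_pow Q.u_pow, Prod.ext H.h_pow Q.h_pow, Prod.ext H.conj Q.conj,
      Prod.ext H.j_sq Q.j_sq, Prod.ext H.jh Q.jh, Prod.ext H.uj Q.uj⟩
  have hsub : (R : Set (G × PGL)) ⊆ Set.range (form (u, pu) (h, ph) (j, pj)) := fun x hx =>
    closure_subset_form HR x hx
  have hfin : (R : Set (G × PGL)).Finite := (Set.finite_range _).subset hsub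
  haveI : Finite R := hfin.to_subtype
  have hcard : Nat.card R ≤ 12144 := by
    refine (Set.ncard_le_ncard hsub (Set.finite_range _)).trans ?_
    refine (Finite.card_range_le _).trans ?_
    simp [Nat.card_eq_fintype_card]
  let π := (MonoidHom.snd G PGL).comp R.subtype
  have hsurj : Function.Surjective π := by
    rw [← MonoidHom.range_eq_top, eq_top_iff, ← pgl_top, Subgroup.closure_le]
    intro x hx
    rcases hx with rfl | rfl | rfl
    · exact ⟨⟨(u, pu), Subgroup.subset_closure (by simp)⟩, rfl⟩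
    · exact ⟨⟨(h, ph), Subgroup.subset_closure (by simp)⟩, rfl⟩
    · exact ⟨⟨(j, pj), Subgroup.subset_closure (by simp)⟩, rfl⟩
  have hbij : Function.Bijective π := (Nat.bijective_iff_surjective_and_card _).2
    ⟨hsurj, le_antisymm (card_pgl ▸ hcard) (Nat.card_le_card_of_surjective _ hsurj)⟩
  let φ := (MonoidHom.fst G PGL).comp R.subtype
  let uR : R := ⟨(u, pu), Subgroup.subset_closure (by simp)⟩
  let hR : R := ⟨(h, ph), Subgroup.subset_closure (by simp)⟩
  let jR : R := ⟨(j, pj), Subgroup.subset_closure (by simp)⟩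
  have HK : Rels uR hR jR := by
    exact ⟨Subtype.ext HR.u_pow, Subtype.ext HR.h_pow, Subtype.ext HR.conj, Subtype.ext HR.j_sq,
      Subtype.ext HR.jh, Subtype.ext HR.uj⟩
  have hform : ∀ x : R, x ∈ Set.range (form uR hR jR) := by
    intro x
    refine closure_subset_form HK x ?_
    have e : Subgroup.closure ({uR, hR, jR} : Set R) = ⊤ := by
      rw [eq_top_iff]
      rintro ⟨y, hy⟩ -
      induction hy using Subgroup.closure_induction with
      | mem z hz =>
        refine Subgroup.subset_closure ?_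
        rcases hz with rfl | rfl | rfl
        exacts [Or.inl rfl, Or.inr (Or.inl rfl), Or.inr (Or.inr rfl)]
      | one => exact one_mem _
      | mul a b ha hb iha ihb => exact mul_mem iha ihb
      | inv a ha iha => exact inv_mem iha
    rw [e]
    exact Subgroup.mem_top x
  have hphk : ∀ k < 22, k ≠ 0 → (5 : ZMod 23) ^ k - 1 ≠ 0 := by decide +kernel
  have hφ : Function.Injective φ := by
    rw [injective_iff_map_eq_one]
    intro x hx
    by_contra hx1
    apply hu
    set N := φ.ker
    have hxN : x ∈ N := hx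
    have huN : uR ∈ N := by
      have powN : ∀ a : ZMod 23, a ≠ 0 → nn uR a ∈ N → uR ∈ N := by
        intro a ha hm
        have e : nn uR a ^ (a⁻¹ : ZMod 23).val = uR := by
          rw [nn, ← pow_mul, ← HK.nn_natCast, Nat.cast_mul, ZMod.natCast_zmod_val,
            ZMod.natCast_zmod_val, mul_inv_cancel₀ ha, nn_one]
        exact e ▸ pow_mem hm _
      have borel : ∀ (a : ZMod 23) (k : ℕ), k < 22 → ¬ (a = 0 ∧ k = 0) →
          nn uR a * hR ^ k ∈ N → uR ∈ N := by
        intro a k hk hne hm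
        by_cases hk0 : k = 0
        · rw [hk0, pow_zero, mul_one] at hm
          exact powN a (fun e => hne ⟨e, hk0⟩) hm
        · refine powN _ (hphk k hk hk0) ?_
          have hc : nn uR a * hR ^ k * uR * (nn uR a * hR ^ k)⁻¹ * uR⁻¹ ∈ N := by
            have := mul_mem hm (φ.normal_ker.conj_mem _ (inv_mem hm) uR)
            simpa [mul_assoc] using this
          have e : nn uR a * hR ^ k * uR * (nn uR a * hR ^ k)⁻¹ * uR⁻¹ =
              nn uR ((5 : ZMod 23) ^ k - 1) := by
            have h1 := HK.h_nn k 1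
            rw [nn_one, mul_one] at h1
            rw [mul_assoc (nn uR a) (hR ^ k) uR, h1, ← mul_assoc, ← HK.nn_add, sub_eq_add_neg,
              HK.nn_add ((5 : ZMod 23) ^ k) (-1), HK.nn_neg 1, nn_one, _root_.mul_inv_rev, ← mul_assoc,
              mul_inv_cancel_right, ← HK.nn_neg a, ← HK.nn_add]
            congr 2
            ring
          exact e ▸ hc
      obtain ⟨⟨a, k⟩ | ⟨a, k, b⟩, he⟩ := hform x
      · simp only [form, Sum.elim_inl] at he
        refine borel a k k.isLt (fun e => hx1 ?_) (he ▸ hxN)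
        rw [← he, e.1, e.2, nn_zero, pow_zero, one_mul]
      · simp only [form, Sum.elim_inr] at he
        -- conjugate to `nn c * h ^ k * j`, then commute with `h`
        set c := b + a
        have h2 : nn uR c * hR ^ (k : ℕ) * jR ∈ N := by
          have := φ.normal_ker.conj_mem _ (he ▸ hxN) (nn uR b)
          rw [show nn uR b * (nn uR a * hR ^ (k : ℕ) * jR * nn uR b) * (nn uR b)⁻¹ =
            nn uR c * hR ^ (k : ℕ) * jR by rw [HK.nn_add]; group] at this
          exact this
        have h3 : nn uR (5 * c) * hR ^ 2 * (nn uR c)⁻¹ ∈ N := by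
          have := mul_mem (φ.normal_ker.conj_mem _ h2 hR) (inv_mem h2)
          have hh := HK.h_nn 1 c
          rw [pow_one, pow_one] at hh
          have hjh : jR * hR⁻¹ * jR⁻¹ = hR := by
            have h0 : jR * hR * jR = hR⁻¹ := eq_inv_of_mul_eq_one_left HK.jh
            calc jR * hR⁻¹ * jR⁻¹ = jR * (jR * hR * jR) * jR⁻¹ := by rw [h0]
              _ = (jR * jR) * hR := by group
              _ = hR := by rw [HK.j_sq, one_mul]
          convert this using 1
          calc nn uR (5 * c) * hR ^ 2 * (nn uR c)⁻¹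
              = (nn uR (5 * c) * hR) * hR ^ (k : ℕ) * hR * (hR ^ (k : ℕ))⁻¹ * (nn uR c)⁻¹ := by
                group
            _ = (hR * nn uR c) * hR ^ (k : ℕ) * (jR * hR⁻¹ * jR⁻¹) * (hR ^ (k : ℕ))⁻¹ *
                (nn uR c)⁻¹ := by rw [hjh, hh]
            _ = hR * (nn uR c * hR ^ (k : ℕ) * jR) * hR⁻¹ * (nn uR c * hR ^ (k : ℕ) * jR)⁻¹ := by
                group
        refine borel (5 * c + 5 ^ 2 * -c) 2 (by norm_num) (fun e => by omega) ?_
        rw [← HK.nn_neg, mul_assoc, HK.h_nn, ← mul_assoc, ← HK.nn_add] at h3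
        exact h3
    exact huN
  exact ⟨φ.range, ⟨(MonoidHom.ofInjective hφ).symm.trans (MulEquiv.ofBijective π hbij)⟩⟩

end CfsgLib.PGLTwentyThree
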